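import Cfsg.Prelude.Def_Spor_Ru
import Cfsg.Agent.Lib.RuMin.Data

/-!
# Coordinates and kernel checks for the Conway-Wales lattice
-/

set_option autoImplicit false

namespace Cfsg.Agent.Lib.RuMin

open Cfsg.Spor

/-- The vector with the given list of coordinates. -/
def toVec (l : List Int) : RuVec :=
  fun p => ⟨l.getD (8 * p.1.val + 2 * p.2.val) 0, l.getD (8 * p.1.val + 2 * p.2.val + 1) 0⟩

/-- The `i`-th of the 56 real coordinates. -/
def co (v : RuVec) (i : Nat) : Int :=
  if i % 2 = 0 then (v (Fin.ofNat 7 (i / 8), Fin.ofNat 4 (i / 2))).re
  else (v (Fin.ofNat 7 (i / 8), Fin.ofNat 4 (i / 2))).im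

/-- The list of real coordinates. -/
def toL (v : RuVec) : List Int := (List.range 56).map (co v)

/-- `x - q y`, missing entries read as zero. -/
def subMul (q : Int) : List Int → List Int → List Int
  | [], ys => ys.map (fun y => -(q * y))
  | xs, [] => xs
  | x :: xs, y :: ys => (x - q * y) :: subMul q xs ys

/-- Reduction against an echelon list. -/
def inSpan : List (Nat × List Int) → List Int → Bool
  | [], v => v.all (fun x => x == 0)
  | (c, b) :: t, v =>
    let q := v.getD c 0 / b.getD c 1
    if q == 0 then inSpan t v else inSpan t (subMul q v b)

/-- The inner product of two lists. -/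
def dot : List Int → List Int → Int
  | x :: xs, y :: ys => x * y + dot xs ys
  | _, _ => 0

/-- Doubled indicator of a multiset of positions. -/
def maskVec (ps : List Nat) : List Int :=
  (List.range 56).map fun i => 2 * (ps.count i : Int)

/-- Positions entering the parity check at `p`. -/
def maskPos (info : List (Nat × Nat)) (p : Nat) : List Nat :=
  p :: (info.filter fun ax => ax.2.testBit p).map Prod.fst

/-- Sublists of length at most `k`. -/
def combos {α : Type} : Nat → List α → List (List α)
  | _, [] => [[]]
  | 0, _ :: _ => [[]]
  | k + 1, a :: t => (combos k t).map (a :: ·) ++ combos (k + 1) t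

/-- The word of a selection. -/
def selWord : List (Nat × Nat) → Nat
  | [] => 0
  | ax :: t => ax.2 ^^^ selWord t

/-- Number of bits among the first `n` positions. -/
def weight : Nat → Nat → Nat
  | 0, _ => 0
  | n + 1, w => w % 2 + weight n (w / 2)

/-- A selection is harmless: too heavy, empty, or one of the listed words. -/
def selOk (w : Nat) : Bool :=
  decide (8 < weight 56 w) || w == 0 || wordsEight.contains w

/-- The sign vectors on a word. -/
def signs (w : Nat) : Nat → List (List Int)
  | 0 => [[]]
  | n + 1 => if w.testBit 0 then
      (signs (w / 2) n).map (1 :: ·) ++ (signs (w / 2) n).map (-1 :: ·)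
    else (signs (w / 2) n).map (0 :: ·)

set_option maxRecDepth 100000
set_option maxHeartbeats 0

theorem table_ok : ((ruTable.map toL).all (inSpan basis)) = true := by decide +kernel

theorem closed_i :
    ((basis.map fun cb => toL (gI • toVec cb.2)).all (inSpan basis)) = true := by decide +kernel

theorem closed_rj :
    ((basis.map fun cb => toL (ruRj (toVec cb.2))).all (inSpan basis)) = true := by decide +kernel

theorem closed_rk :
    ((basis.map fun cb => toL (ruRk (toVec cb.2))).all (inSpan basis)) = true := by decide +kernel

theorem closed_sign :
    ((basis.map fun cb => toL (ruSign (toVec cb.2))).all (inSpan basis)) = true := by decide +kernel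

theorem closed_shift :
    ((basis.map fun cb => toL (ruShift (toVec cb.2))).all (inSpan basis)) = true := by decide +kernel

theorem basis_len : (basis.all fun cb => cb.2.length == 56) = true := by decide +kernel

theorem gram_ok : (basis.all fun a => basis.all fun b => dot a.2 b.2 % 4 == 0) = true := by
  decide +kernel

theorem norms_ok : (basis.all fun a => dot a.2 a.2 % 8 == 0) = true := by decide +kernel

theorem masks_one :
    ((List.range 56).all fun p => inSpan basis (maskVec (maskPos infoOne p))) = true := by
  decide +kernel

theorem masks_two :
    ((List.range 56).all fun p => inSpan basis (maskVec (maskPos infoTwo p))) = true := by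
  decide +kernel

theorem sels_one : ((combos 4 infoOne).all fun s => selOk (selWord s)) = true := by decide +kernel

theorem sels_two : ((combos 4 infoTwo).all fun s => selOk (selWord s)) = true := by decide +kernel

theorem info_disjoint : ((infoOne ++ infoTwo).map Prod.fst).Nodup ∧
    ((infoOne ++ infoTwo).all fun ax => decide (ax.1 < 56)) = true := by decide +kernel

theorem signs_bad : (wordsEight.all fun w => (signs w 56).all fun l =>
    basis.any fun b => dot l b.2 % 4 != 0) = true := by decide +kernel

theorem pairs_bad : ((List.range 56).all fun j => (List.range j).all fun i =>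
    basis.any fun b => (b.2.getD i 0 + b.2.getD j 0) % 2 != 0) = true := by decide +kernel

end Cfsg.Agent.Lib.RuMin
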