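import Cfsg.Agent.Lib.RuMin.Basic

/-!
# The minimum of the Conway-Wales lattice
-/

set_option autoImplicit false

namespace Cfsg.Agent.Lib.RuMin

open Cfsg.Spor

theorem co_add (x y : RuVec) (i : Nat) : co (x + y) i = co x i + co y i := by
  unfold co; split_ifs <;> simp

theorem co_neg (x : RuVec) (i : Nat) : co (-x) i = - co x i := by
  unfold co; split_ifs <;> simp

theorem co_zero (i : Nat) : co 0 i = 0 := by
  unfold co; split_ifs <;> simp

theorem co_toVec (l : List Int) (i : Nat) (hi : i < 56) : co (toVec l) i = l.getD i 0 := by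
  interval_cases i <;> rfl

theorem toL_getD (x : RuVec) (i : Nat) (hi : i < 56) : (toL x).getD i 0 = co x i := by
  simp [toL, List.getD, List.getElem?_map, List.getElem?_range hi]

theorem toVec_toL (x : RuVec) : toVec (toL x) = x := by
  funext p
  obtain ⟨n, t⟩ := p
  unfold toVec
  rw [toL_getD x _ (by simp only; omega), toL_getD x _ (by simp only; omega)]
  fin_cases n <;> fin_cases t <;> rfl

/-- The real inner product. -/
def ip (x y : RuVec) : Int := ∑ i ∈ Finset.range 56, co x i * co y i

theorem ip_comm (x y : RuVec) : ip x y = ip y x :=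
  Finset.sum_congr rfl fun _ _ => mul_comm _ _

theorem ip_add (x y z : RuVec) : ip (x + y) z = ip x z + ip y z := by
  simp only [ip, co_add, add_mul, Finset.sum_add_distrib]

theorem ip_neg (x z : RuVec) : ip (-x) z = - ip x z := by
  simp only [ip, co_neg, neg_mul, Finset.sum_neg_distrib]

theorem ip_zero (z : RuVec) : ip 0 z = 0 := by
  simp [ip, co_zero]

theorem ruNorm_eq (x : RuVec) : ruNorm x = ip x x := by
  simp only [ruNorm, ip, Fintype.sum_prod_type, Fin.sum_univ_seven, Fin.sum_univ_four,
    Finset.sum_range_succ, Finset.sum_range_zero, Zsqrtd.norm_def, co]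
  simp only [Nat.reduceMod, Nat.reduceDiv, one_ne_zero, if_true, if_false]
  norm_num [Fin.ofNat]
  simp only [Fin.reduceFinMk]
  ring

theorem dot_eq : ∀ a b : List Int, a.length = b.length →
    dot a b = ∑ i ∈ Finset.range a.length, a.getD i 0 * b.getD i 0
  | [], _, _ => by simp [dot]
  | x :: xs, [], h => by simp at h
  | x :: xs, y :: ys, h => by
    rw [List.length_cons, Finset.sum_range_succ']
    simp only [dot, List.getD_cons_succ, List.getD_cons_zero]
    rw [dot_eq xs ys (by simpa using h), add_comm]

theorem ip_toVec (l b : List Int) (hl : l.length = 56) (hb : b.length = 56) :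
    ip (toVec l) (toVec b) = dot l b := by
  rw [dot_eq l b (by omega), hl]
  refine Finset.sum_congr rfl fun i hi => ?_
  rw [Finset.mem_range] at hi
  rw [co_toVec l i hi, co_toVec b i hi]

/-- The span of the listed basis. -/
def span : AddSubgroup RuVec := AddSubgroup.closure {v | ∃ cb ∈ basis, v = toVec cb.2}

theorem subMul_getD (q : Int) : ∀ (x y : List Int) (i : Nat),
    (subMul q x y).getD i 0 = x.getD i 0 - q * y.getD i 0
  | [], ys, i => by
    simp [subMul, List.getD, List.getElem?_map]
    cases ys[i]? <;> simp
  | x :: xs, [], i => by simp [subMul]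
  | x :: xs, y :: ys, 0 => by simp [subMul]
  | x :: xs, y :: ys, i + 1 => by
    simp only [subMul, List.getD_cons_succ]
    exact subMul_getD q xs ys i

theorem toVec_subMul (q : Int) (x y : List Int) :
    toVec (subMul q x y) = toVec x - q • toVec y := by
  funext p
  unfold toVec
  ext
  · simpa using subMul_getD q x y (8 * p.1.val + 2 * p.2.val)
  · simpa using subMul_getD q x y (8 * p.1.val + 2 * p.2.val + 1)

theorem inSpan_sound : ∀ (t : List (Nat × List Int)), (∀ cb ∈ t, cb ∈ basis) → ∀ v : List Int,
    inSpan t v = true → toVec v ∈ span := by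
  intro t
  induction t with
  | nil =>
    intro _ v h
    simp only [inSpan, List.all_eq_true, beq_iff_eq] at h
    have h0 : ∀ i, v.getD i 0 = 0 := by
      intro i
      by_cases hi : i < v.length
      · rw [List.getD_eq_getElem _ _ hi]; exact h _ (List.getElem_mem hi)
      · rw [List.getD_eq_default _ _ (by omega)]
    have : toVec v = 0 := by
      funext p; unfold toVec; ext
      · simpa using h0 (8 * p.1.val + 2 * p.2.val)
      · simpa using h0 (8 * p.1.val + 2 * p.2.val + 1)
    rw [this]; exact span.zero_mem
  | cons cb t ih =>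
    intro ht v h
    obtain ⟨c, b⟩ := cb
    have ht' : ∀ x ∈ t, x ∈ basis := fun x hx => ht x (List.mem_cons_of_mem _ hx)
    simp only [inSpan] at h
    split at h
    · exact ih ht' v h
    · have hm := ih ht' _ h
      rw [toVec_subMul] at hm
      have hb : toVec b ∈ span :=
        AddSubgroup.subset_closure ⟨(c, b), ht _ List.mem_cons_self, rfl⟩
      have := span.add_mem hm (span.zsmul_mem hb (v.getD c 0 / b.getD c 1))
      simpa using this

theorem mem_span_of_inSpan {x : RuVec} (h : inSpan basis (toL x) = true) : x ∈ span := by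
  have := inSpan_sound basis (fun _ h => h) _ h
  rwa [toVec_toL] at this

theorem span_map (f : RuVec → RuVec) (hadd : ∀ x y, f (x + y) = f x + f y)
    (h : ((basis.map fun cb => toL (f (toVec cb.2))).all (inSpan basis)) = true)
    {v : RuVec} (hv : v ∈ span) : f v ∈ span := by
  let F := AddMonoidHom.mk' f hadd
  have hle : span ≤ span.comap F := by
    refine (AddSubgroup.closure_le _).2 ?_
    rintro x ⟨cb, hcb, rfl⟩
    refine mem_span_of_inSpan ?_
    exact List.all_eq_true.1 h _ (List.mem_map.2 ⟨cb, hcb, rfl⟩)
  exact hle hv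

theorem lattice_le : ruLattice ≤ span := by
  refine sInf_le ⟨?_, ?_⟩
  · intro v hv
    exact mem_span_of_inSpan (List.all_eq_true.1 table_ok _ (List.mem_map.2 ⟨v, hv, rfl⟩))
  · intro v hv
    refine ⟨span_map _ (fun x y => smul_add gI x y) closed_i hv,
      span_map _ ?_ closed_rj hv, span_map _ ?_ closed_rk hv,
      span_map _ ?_ closed_sign hv, span_map _ ?_ closed_shift hv⟩
    · intro x y; funext p; obtain ⟨n, t⟩ := p
      fin_cases t <;> simp [ruRj] <;> ring
    · intro x y; funext p; obtain ⟨n, t⟩ := p
      fin_cases t <;> simp [ruRk] <;> ring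
    · intro x y; funext p
      simp only [ruSign, Pi.add_apply]; split_ifs <;> simp [add_comm]
    · intro x y; funext p; simp [ruShift]

theorem basis_length {cb : Nat × List Int} (h : cb ∈ basis) : cb.2.length = 56 :=
  beq_iff_eq.1 (List.all_eq_true.1 basis_len _ h)

theorem ip_dvd {x y : RuVec} (hx : x ∈ span) (hy : y ∈ span) : (4 : Int) ∣ ip x y := by
  induction hx using AddSubgroup.closure_induction with
  | mem x hx =>
    obtain ⟨a, ha, rfl⟩ := hx
    induction hy using AddSubgroup.closure_induction with
    | mem y hy =>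
      obtain ⟨b, hb, rfl⟩ := hy
      rw [ip_toVec _ _ (basis_length ha) (basis_length hb)]
      exact Int.dvd_of_emod_eq_zero
        (beq_iff_eq.1 (List.all_eq_true.1 (List.all_eq_true.1 gram_ok a ha) b hb))
    | zero => rw [ip_comm, ip_zero]; exact dvd_zero _
    | add u v _ _ hu hv => rw [ip_comm, ip_add, ip_comm u, ip_comm v]; exact dvd_add hu hv
    | neg u _ hu => rw [ip_comm, ip_neg, ip_comm u]; exact dvd_neg.2 hu
  | zero => rw [ip_zero]; exact dvd_zero _
  | add u v _ _ hu hv => rw [ip_add]; exact dvd_add hu hv
  | neg u _ hu => rw [ip_neg]; exact dvd_neg.2 hu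

theorem ip_self_dvd {x : RuVec} (hx : x ∈ span) : (8 : Int) ∣ ip x x := by
  induction hx using AddSubgroup.closure_induction with
  | mem x hx =>
    obtain ⟨a, ha, rfl⟩ := hx
    rw [ip_toVec _ _ (basis_length ha) (basis_length ha)]
    exact Int.dvd_of_emod_eq_zero (beq_iff_eq.1 (List.all_eq_true.1 norms_ok a ha))
  | zero => rw [ip_zero]; exact dvd_zero _
  | add u v hu' hv' hu hv =>
    have e : ip (u + v) (u + v) = ip u u + ip v v + 2 * ip u v := by
      rw [ip_add, ip_comm u, ip_comm v, ip_add, ip_add, ip_comm v u]; ring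
    obtain ⟨k, hk⟩ := ip_dvd hu' hv'
    rw [e]
    exact dvd_add (dvd_add hu hv) ⟨k, by omega⟩
  | neg u _ hu => rw [ip_neg, ip_comm, ip_neg, neg_neg]; exact hu

/-- Parity of a coordinate. -/
def par (x : RuVec) (i : Nat) : Bool := decide (co x i % 2 = 1)

/-- The exclusive or of a Boolean function over a list. -/
def xorAll {α : Type} (f : α → Bool) : List α → Bool
  | [] => false
  | a :: t => f a ^^ xorAll f t

theorem xorAll_parity (g : Nat → Int) : ∀ l : List Nat,
    xorAll (fun i => decide (g i % 2 = 1)) l = decide ((l.map g).sum % 2 = 1)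
  | [] => by simp [xorAll]
  | a :: t => by
    rw [xorAll, xorAll_parity g t, List.map_cons, List.sum_cons]
    rcases Int.emod_two_eq_zero_or_one (g a) with h | h <;>
      rcases Int.emod_two_eq_zero_or_one (t.map g).sum with h' | h' <;>
      simp [h, h', Int.add_emod]

theorem ip_maskVec (x : RuVec) : ∀ ps : List Nat, (∀ p ∈ ps, p < 56) →
    ip x (toVec (maskVec ps)) = 2 * (ps.map (co x)).sum := by
  intro ps
  have hget : ∀ (qs : List Nat) (i : Nat), i < 56 →
      co (toVec (maskVec qs)) i = 2 * (qs.count i : Int) := by
    intro qs i hi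
    rw [co_toVec _ i hi]
    simp [maskVec, List.getD, List.getElem?_map, List.getElem?_range hi]
  induction ps with
  | nil =>
    intro _
    rw [ip]
    refine (Finset.sum_eq_zero fun i hi => ?_).trans (by simp)
    rw [hget _ i (Finset.mem_range.1 hi)]; simp
  | cons a t ih =>
    intro h
    have ha : a < 56 := h a List.mem_cons_self
    have hx := ih (fun p hp => h p (List.mem_cons_of_mem _ hp))
    have : ip x (toVec (maskVec (a :: t))) = ip x (toVec (maskVec t)) + 2 * co x a := by
      simp only [ip]
      rw [← Finset.add_sum_erase _ _ (Finset.mem_range.2 ha),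
        ← Finset.add_sum_erase _ _ (Finset.mem_range.2 ha)]
      have : ∀ i ∈ (Finset.range 56).erase a,
          co x i * co (toVec (maskVec (a :: t))) i = co x i * co (toVec (maskVec t)) i := by
        intro i hi
        have hne : a ≠ i := (Finset.ne_of_mem_erase hi).symm
        have hi' := Finset.mem_range.1 (Finset.mem_of_mem_erase hi)
        rw [hget _ i hi', hget _ i hi', List.count_cons_of_ne hne]
      rw [Finset.sum_congr rfl this, hget _ a ha, hget _ a ha, List.count_cons_self]
      push_cast; ring
    rw [this, hx, List.map_cons, List.sum_cons]; ring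

/-- The word predicted by an information set. -/
def predict (x : RuVec) (info : List (Nat × Nat)) : Nat :=
  selWord (info.filter fun ax => par x ax.1)

theorem xorAll_map {α β : Type} (f : β → Bool) (g : α → β) : ∀ l : List α,
    xorAll f (l.map g) = xorAll (fun a => f (g a)) l
  | [] => rfl
  | a :: t => by simp [xorAll, xorAll_map f g t]

theorem testBit_selWord (p : Nat) : ∀ l : List (Nat × Nat),
    (selWord l).testBit p = xorAll (fun ax => ax.2.testBit p) l
  | [] => by simp [selWord, xorAll]
  | a :: t => by simp [selWord, xorAll, testBit_selWord p t]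

theorem xorAll_filter_swap {α : Type} (f g : α → Bool) : ∀ l : List α,
    xorAll f (l.filter g) = xorAll g (l.filter f)
  | [] => rfl
  | a :: t => by
    cases hf : f a <;> cases hg : g a <;>
      simp [hf, hg, xorAll, xorAll_filter_swap f g t]

theorem par_eq_predict {x : RuVec} (hx : x ∈ span) (info : List (Nat × Nat))
    (hlt : ∀ ax ∈ info, ax.1 < 56)
    (hm : ((List.range 56).all fun p => inSpan basis (maskVec (maskPos info p))) = true)
    {p : Nat} (hp : p < 56) : par x p = (predict x info).testBit p := by
  have hs := inSpan_sound basis (fun _ h => h) _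
    (List.all_eq_true.1 hm p (List.mem_range.2 hp))
  have hd := ip_dvd hx hs
  have hlt' : ∀ q ∈ maskPos info p, q < 56 := by
    intro q hq
    rcases List.mem_cons.1 hq with rfl | hq
    · exact hp
    · obtain ⟨ax, hax, rfl⟩ := List.mem_map.1 hq
      exact hlt ax (List.mem_filter.1 hax).1
  rw [ip_maskVec x _ hlt'] at hd
  have he : xorAll (par x) (maskPos info p) = false := by
    show xorAll (fun i => decide (co x i % 2 = 1)) _ = false
    rw [xorAll_parity]
    simp only [decide_eq_false_iff_not]
    omega
  rw [maskPos, xorAll, xorAll_map] at he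
  rw [predict, testBit_selWord, xorAll_filter_swap]
  revert he
  cases par x p <;> simp

theorem mem_combos {α : Type} : ∀ (k : Nat) (l s : List α), s.Sublist l → s.length ≤ k →
    s ∈ combos k l
  | k, [], s, hs, _ => by cases k <;> simp [combos, List.sublist_nil.1 hs]
  | 0, a :: t, s, _, hk => by
    simp [combos, List.length_eq_zero_iff.1 (Nat.le_zero.1 hk)]
  | k + 1, a :: t, s, hs, hk => by
    rw [combos, List.mem_append]
    cases hs with
    | cons _ h => exact Or.inr (mem_combos (k + 1) t s h hk)
    | cons_cons _ h =>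
      rename_i s'
      exact Or.inl (List.mem_map.2 ⟨s', mem_combos k t s' h (by simp at hk; omega), rfl⟩)

theorem weight_eq : ∀ n w : Nat,
    weight n w = ((Finset.range n).filter fun i => w.testBit i = true).card
  | 0, w => by simp [weight]
  | n + 1, w => by
    rw [weight, weight_eq n (w / 2), Finset.card_filter, Finset.card_filter,
      Finset.sum_range_succ']
    simp only [Nat.testBit_succ, Nat.testBit_zero]
    rcases Nat.mod_two_eq_zero_or_one w with h | h <;> simp [h, add_comm]

theorem mem_signs : ∀ (n w : Nat) (l : List Int), l.length = n →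
    (∀ i, i < n → (w.testBit i = true → l.getD i 0 = 1 ∨ l.getD i 0 = -1) ∧
      (w.testBit i = false → l.getD i 0 = 0)) → l ∈ signs w n
  | 0, w, l, hl, _ => by simp [signs, List.length_eq_zero_iff.1 hl]
  | n + 1, w, [], hl, _ => by simp at hl
  | n + 1, w, a :: t, hl, h => by
    have ht : t ∈ signs (w / 2) n := mem_signs n (w / 2) t (by simpa using hl) fun i hi => by
      simpa [Nat.testBit_succ] using h (i + 1) (by omega)
    have h0 := h 0 (by omega)
    rw [List.getD_cons_zero] at h0
    rw [signs]
    cases hb : w.testBit 0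
    · rw [if_neg (by simp), h0.2 hb]
      exact List.mem_map.2 ⟨t, ht, rfl⟩
    · rw [if_pos rfl, List.mem_append]
      rcases h0.1 hb with rfl | rfl
      · exact Or.inl (List.mem_map.2 ⟨t, ht, rfl⟩)
      · exact Or.inr (List.mem_map.2 ⟨t, ht, rfl⟩)

theorem card_odd_le {x : RuVec} (h : ip x x ≤ 8) :
    ((Finset.range 56).filter fun i => par x i = true).card ≤ 8 := by
  have h1 : ∑ i ∈ (Finset.range 56).filter (fun i => par x i = true), (1 : Int) ≤ ip x x := by
    refine le_trans (Finset.sum_le_sum fun i hi => ?_)
      (Finset.sum_le_sum_of_subset_of_nonneg (Finset.filter_subset _ _)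
        fun i _ _ => mul_self_nonneg (co x i))
    have h2 : co x i % 2 = 1 := by simpa [par] using (Finset.mem_filter.1 hi).2
    have : co x i ≠ 0 := by omega
    nlinarith [mul_self_pos.2 this]
  simp only [Finset.sum_const, nsmul_eq_mul, mul_one] at h1
  omega

set_option maxHeartbeats 1000000 in
theorem ne_eight {x : RuVec} (hx : x ∈ span) : ip x x ≠ 8 := by
  intro h8
  obtain ⟨hnd, hlt⟩ := info_disjoint
  have hlt' : ∀ ax ∈ infoOne ++ infoTwo, ax.1 < 56 := fun ax h =>
    of_decide_eq_true (List.all_eq_true.1 hlt ax h)
  let A := (Finset.range 56).filter fun i => par x i = true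
  have hA : A.card ≤ 8 := card_odd_le h8.le
  have hsum : ((infoOne ++ infoTwo).filter fun ax => par x ax.1).length ≤ 8 := by
    refine le_trans ?_ hA
    have hnd' : (((infoOne ++ infoTwo).filter fun ax => par x ax.1).map Prod.fst).Nodup :=
      hnd.sublist (List.filter_sublist.map _)
    rw [← List.length_map (f := Prod.fst), ← List.toFinset_card_of_nodup hnd']
    refine Finset.card_le_card fun i hi => ?_
    obtain ⟨ax, hax, rfl⟩ := List.mem_map.1 (List.mem_toFinset.1 hi)
    obtain ⟨hm, hp⟩ := List.mem_filter.1 hax
    exact Finset.mem_filter.2 ⟨Finset.mem_range.2 (hlt' ax hm), hp⟩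
  rw [List.filter_append, List.length_append] at hsum
  obtain ⟨w, hok, hw⟩ : ∃ w, selOk w = true ∧ ∀ p, p < 56 → par x p = w.testBit p := by
    by_cases hc : (infoOne.filter fun ax => par x ax.1).length ≤ 4
    · exact ⟨predict x infoOne, List.all_eq_true.1 sels_one _
        (mem_combos 4 _ _ List.filter_sublist hc), fun p hp => par_eq_predict hx _
          (fun ax h => hlt' ax (List.mem_append_left _ h)) masks_one hp⟩
    · exact ⟨predict x infoTwo, List.all_eq_true.1 sels_two _
        (mem_combos 4 _ _ List.filter_sublist (by omega)), fun p hp => par_eq_predict hx _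
          (fun ax h => hlt' ax (List.mem_append_right _ h)) masks_two hp⟩
  have hAw : A = (Finset.range 56).filter fun i => w.testBit i = true := by
    refine Finset.filter_congr fun i hi => ?_
    rw [hw i (Finset.mem_range.1 hi)]
  have hwt : weight 56 w ≤ 8 := by rw [weight_eq, ← hAw]; exact hA
  simp only [selOk, Bool.or_eq_true, decide_eq_true_eq, beq_iff_eq, List.contains_iff_mem] at hok
  rcases hok with (hbig | h0) | hmem
  · omega
  · -- all coordinates even
    subst h0
    have hev : ∀ i, i < 56 → co x i % 2 = 0 := by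
      intro i hi
      have := hw i hi
      simp [par] at this
      omega
    let y : Nat → Int := fun i => co x i / 2
    have hy : ∀ i, i < 56 → co x i = 2 * y i := by
      intro i hi; have := hev i hi; simp only [y]; omega
    have hy2 : ∑ i ∈ Finset.range 56, y i * y i = 2 := by
      have : ip x x = 4 * ∑ i ∈ Finset.range 56, y i * y i := by
        rw [Finset.mul_sum]
        exact Finset.sum_congr rfl fun i hi => by rw [hy i (Finset.mem_range.1 hi)]; ring
      omega
    obtain ⟨i, j, hij, hj, hi1, hj1, hrest⟩ : ∃ i j, i < j ∧ j < 56 ∧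
        (y i = 1 ∨ y i = -1) ∧ (y j = 1 ∨ y j = -1) ∧
        ∀ k ∈ Finset.range 56, k ≠ i → k ≠ j → y k = 0 := by
      have hsmall : ∀ k ∈ Finset.range 56, y k = 0 ∨ y k = 1 ∨ y k = -1 := by
        intro k hk
        have := Finset.single_le_sum (f := fun i => y i * y i) (fun i _ => mul_self_nonneg _) hk
        rw [hy2] at this
        have : -2 < y k ∧ y k < 2 := by constructor <;> nlinarith
        omega
      have hcard : (((Finset.range 56).filter fun k => y k ≠ 0).card : Int) = 2 := by
        rw [Finset.card_filter, Nat.cast_sum, ← hy2]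
        refine Finset.sum_congr rfl fun k hk => ?_
        rcases hsmall k hk with h | h | h <;> simp [h]
      obtain ⟨i, j, hne, hset⟩ := Finset.card_eq_two.1 (by exact_mod_cast hcard :
        ((Finset.range 56).filter fun k => y k ≠ 0).card = 2)
      have hmem : ∀ k, k = i ∨ k = j ↔ k < 56 ∧ y k ≠ 0 := fun k => by
        have := congrArg (k ∈ ·) hset
        simpa using this.symm
      have hi := (hmem i).1 (Or.inl rfl)
      have hj := (hmem j).1 (Or.inr rfl)
      have hz : ∀ k ∈ Finset.range 56, k ≠ i → k ≠ j → y k = 0 := fun k hk a b => by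
        by_contra h
        exact ((hmem k).2 ⟨Finset.mem_range.1 hk, h⟩).elim a b
      have hyi := (hsmall i (Finset.mem_range.2 hi.1)).resolve_left hi.2
      have hyj := (hsmall j (Finset.mem_range.2 hj.1)).resolve_left hj.2
      rcases lt_or_gt_of_ne hne with h | h
      · exact ⟨i, j, h, hj.1, hyi, hyj, hz⟩
      · exact ⟨j, i, h, hi.1, hyj, hyi, fun k hk a b => hz k hk b a⟩
    obtain ⟨b, hb, hodd⟩ := List.any_eq_true.1 (List.all_eq_true.1
      (List.all_eq_true.1 pairs_bad j (List.mem_range.2 hj)) i (List.mem_range.2 hij))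
    have hbs : toVec b.2 ∈ span := AddSubgroup.subset_closure ⟨b, hb, rfl⟩
    obtain ⟨c, hc⟩ := ip_dvd hx hbs
    have hi : i < 56 := by omega
    have he : ip x (toVec b.2) = 2 * (y i * b.2.getD i 0 + y j * b.2.getD j 0) := by
      rw [ip, Finset.sum_eq_add_of_mem i j (Finset.mem_range.2 hi) (Finset.mem_range.2 hj) hij.ne
        (fun k hk hne => by
          rw [hy k (Finset.mem_range.1 hk), hrest k hk hne.1 hne.2]; simp)]
      rw [co_toVec _ i hi, co_toVec _ j hj, hy i hi, hy j hj]; ring
    simp only [bne_iff_ne, ne_eq] at hodd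
    rcases hi1 with e | e <;> rcases hj1 with e' | e' <;> rw [e, e'] at he <;> omega
  · -- a word of weight eight
    have hw8 : A.card = 8 := by
      have : (wordsEight.all fun w => weight 56 w == 8) = true := by decide +kernel
      rw [hAw, ← weight_eq]
      exact beq_iff_eq.1 (List.all_eq_true.1 this w hmem)
    have hcoord : ∀ i ∈ Finset.range 56, co x i * co x i = if i ∈ A then 1 else 0 := by
      have hle : ∀ i ∈ Finset.range 56, (if i ∈ A then (1 : Int) else 0) ≤ co x i * co x i := by
        intro i _
        split_ifs with hiA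
        · have h2 : co x i % 2 = 1 := by simpa [par] using (Finset.mem_filter.1 hiA).2
          have : co x i ≠ 0 := by omega
          have := mul_self_pos.2 this; omega
        · exact mul_self_nonneg _
      have hs : ∑ i ∈ Finset.range 56, (if i ∈ A then (1 : Int) else 0) = ip x x := by
        rw [Finset.sum_ite_mem, Finset.inter_eq_right.2 (Finset.filter_subset _ _)]
        simp only [Finset.sum_const, nsmul_eq_mul, mul_one]; rw [h8]; exact_mod_cast hw8
      exact fun i hi => ((Finset.sum_eq_sum_iff_of_le hle).1 hs i hi).symm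
    have hl : toL x ∈ signs w 56 := by
      refine mem_signs 56 w _ (by simp [toL]) fun i hi => ?_
      rw [toL_getD x i hi]
      have hc := hcoord i (Finset.mem_range.2 hi)
      constructor <;> intro hb
      · rw [if_pos (by rw [hAw]; simp [hb, hi])] at hc
        rcases Int.eq_one_or_neg_one_of_mul_eq_one hc with h | h <;> simp [h]
      · rw [if_neg (by rw [hAw]; simp [hb])] at hc
        exact mul_self_eq_zero.1 hc
    obtain ⟨b, hb, hne⟩ := List.any_eq_true.1
      (List.all_eq_true.1 (List.all_eq_true.1 signs_bad w hmem) _ hl)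
    have hd := ip_dvd hx (AddSubgroup.subset_closure ⟨b, hb, rfl⟩ : toVec b.2 ∈ span)
    rw [← toVec_toL x, ip_toVec _ _ (by simp [toL]) (basis_length hb)] at hd
    simp only [bne_iff_ne, ne_eq] at hne
    omega

end Cfsg.Agent.Lib.RuMin
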